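import Cfsg.Agent.H465.OrdTwo

/-!
# S4874, task T18: 2-parts of the orders of the groups of Lie type (helper487)
-/

set_option autoImplicit false

namespace Cfsg.Agent.H487.K5

open Cfsg Cfsg.Agent.OrdDiv Cfsg.Agent.H465.OrdTwo

universe u

/-! ### arithmetic -/

/-- characteristic two -/
theorem even_big {X k N c d : ℕ} (hd : Odd d) (hkN : 7 ≤ k * N) (h : d * X = (2 ^ k) ^ N * c) : 128 ∣ X := by
  have h1 : 2 ^ 7 ∣ d * X := by
    rw [h, ← pow_mul]
    exact Dvd.dvd.mul_right (pow_dvd_pow 2 hkN) c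
  have h2 : Nat.Coprime (2 ^ 7) d := Nat.Coprime.pow_left 7 (Nat.coprime_two_left.2 hd)
  exact h2.dvd_of_dvd_mul_left h1

/-- odd characteristic -/
theorem odd_big {g X a b c r : ℕ} (hg : 0 < g) (hgc : g ∣ c) (h : g * X = a * b * c * r) (h8 : 8 ∣ a)
    (h16 : 16 ∣ b) : 128 ∣ X := by
  obtain ⟨t, rfl⟩ := hgc
  obtain ⟨a', rfl⟩ := h8
  obtain ⟨b', rfl⟩ := h16
  have h1 : X = 128 * (a' * b' * t * r) := Nat.eq_of_mul_eq_mul_left hg (by rw [h]; ring)
  exact Dvd.intro _ h1.symm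

theorem eight {q : ℕ} (hq : Odd q) : 8 ∣ q ^ 2 - 1 := Nat.eight_dvd_sq_sub_one_of_odd hq

theorem sub_dvd (q : ℕ) {a b : ℕ} (h : a ∣ b) : q ^ a - 1 ∣ q ^ b - 1 := by
  obtain ⟨c, rfl⟩ := h
  have := Nat.sub_dvd_pow_sub_pow (q ^ a) 1 c
  rwa [one_pow, ← pow_mul] at this

theorem sixteen {q : ℕ} (hq : Odd q) {k : ℕ} (hk : 4 ∣ k) : 16 ∣ q ^ k - 1 := by
  refine Dvd.dvd.trans ?_ (sub_dvd q hk)
  have h1 : 1 ≤ q ^ 2 := Nat.one_le_pow _ _ hq.pos
  have h2 : q ^ 4 - 1 = (q ^ 2 - 1) * (q ^ 2 + 1) := by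
    zify [h1, Nat.one_le_pow 4 q hq.pos]
    ring
  rw [h2, show (16 : ℕ) = 8 * 2 by norm_num]
  exact Nat.mul_dvd_mul (eight hq) (even_iff_two_dvd.1 (hq.pow.add_odd odd_one))

theorem two_dvd {q : ℕ} (hq : Odd q) (k : ℕ) : 2 ∣ q ^ k - 1 := by
  refine even_iff_two_dvd.1 ?_
  exact Nat.Odd.sub_odd hq.pow odd_one

theorem two_pow_of_even {q : ℕ} (h : IsPrimePow q) (he : Even q) : ∃ k, 1 ≤ k ∧ q = 2 ^ k := by
  obtain ⟨p, k, hp, hk, rfl⟩ := (isPrimePow_nat_iff q).1 h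
  have h1 : Even p := (Nat.even_pow.1 he).1
  have h2 : p = 2 := hp.even_iff.1 h1
  exact ⟨k, hk, by rw [h2]⟩

/-! ### classical groups -/

section

variable {F : Type} [Field F] [Fintype F]

theorem card_two (F : Type) [Field F] [Fintype F] (h : Even (Fintype.card F)) :
    ∃ k, 1 ≤ k ∧ Fintype.card F = 2 ^ k := two_pow_of_even Fintype.isPrimePow_card_of_field h

theorem psl_even {k n : ℕ} (hk : 1 ≤ k) (hF : Fintype.card F = 2 ^ k) (hn : 2 ≤ n)
    (h7 : 7 ≤ k * (n * (n - 1) / 2)) : 128 ∣ Nat.card (Matrix.ProjectiveSpecialLinearGroup (Fin n) F) := by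
  have h := S0243.result hF n hn
  rw [prod_psl, ← mul_assoc] at h
  have he := even_two_pow hk
  have ho : Odd ((2 ^ k) - 1) := by
    have := odd_sub he (Nat.one_le_pow _ _ (by norm_num)) (k := 1) one_ne_zero
    rwa [pow_one] at this
  exact even_big ((odd_gcd_right ho).mul ho) h7 h

theorem psp_even {k m : ℕ} (hk : 1 ≤ k) (hF : Fintype.card F = 2 ^ k) (hm : 1 ≤ m)
    (h7 : 7 ≤ k * m ^ 2) : 128 ∣ Nat.card (PSp m F) := by
  have e1 := S0245.result hF m
  have e2 := S0246.result hF m hm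
  have h3 := Subgroup.card_eq_card_quotient_mul_card_subgroup
    (Subgroup.center (Matrix.symplecticGroup (Fin m) F))
  rw [e1, e2, mul_comm (Nat.card _) _] at h3
  have he := even_two_pow hk
  have ho : Odd ((2 ^ k) - 1) := by
    have := odd_sub he (Nat.one_le_pow _ _ (by norm_num)) (k := 1) one_ne_zero
    rwa [pow_one] at this
  exact even_big (odd_gcd_right ho) h7 h3.symm

theorem psu_even {k n : ℕ} (hk : 1 ≤ k) (hF : Fintype.card F = (2 ^ k) ^ 2) (hn : 2 ≤ n)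
    (h7 : 7 ≤ k * (n * (n - 1) / 2)) : 128 ∣ Nat.card (PSU n F (2 ^ k)) := by
  have h := S0280.result hF n hn
  rw [← mul_assoc] at h
  have he := even_two_pow hk
  have ho : Odd ((2 ^ k) + 1) := by
    have := odd_add he (k := 1) one_ne_zero
    rwa [pow_one] at this
  exact even_big ((odd_gcd_right ho).mul ho) h7 h

theorem psl_odd {q n : ℕ} (hq : Odd q) (hF : Fintype.card F = q) (hn : 4 ≤ n) :
    128 ∣ Nat.card (Matrix.ProjectiveSpecialLinearGroup (Fin n) F) := by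
  have hq1 : 1 < q := hF ▸ Fintype.one_lt_card
  have h := S0243.result hF n (by omega)
  obtain ⟨r, rfl⟩ := Nat.exists_eq_add_of_le hn
  rw [prod_psl, Finset.prod_range_add] at h
  set R := ∏ x ∈ Finset.range r, (q ^ (4 + x + 1) - 1) with hR
  set X := Nat.card (Matrix.ProjectiveSpecialLinearGroup (Fin (4 + r)) F)
  generalize q ^ ((4 + r) * (4 + r - 1) / 2) = E at h
  simp only [Finset.prod_range_succ, Finset.prod_range_zero, one_mul, zero_add, pow_one, Nat.reduceAdd] at h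
  have h2 : Nat.gcd (4 + r) (q - 1) * X = (q ^ 2 - 1) * (q ^ 4 - 1) * (q ^ 3 - 1) * (E * R) := by
    refine Nat.eq_of_mul_eq_mul_left (show 0 < q - 1 by omega) ?_
    calc (q - 1) * (Nat.gcd (4 + r) (q - 1) * X) = Nat.gcd (4 + r) (q - 1) * ((q - 1) * X) := by ring
      _ = _ := h
      _ = _ := by ring
  refine odd_big (Nat.gcd_pos_of_pos_left _ (by omega)) ((Nat.gcd_dvd_right _ _).trans ?_) h2 (eight hq)
    (sixteen hq dvd_rfl)
  have := sub_dvd q (show 1 ∣ 3 by norm_num)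
  rwa [pow_one] at this

theorem psu_odd {q n : ℕ} (hq : Odd q) (hF : Fintype.card F = q ^ 2) (hn : 4 ≤ n) :
    128 ∣ Nat.card (PSU n F q) := by
  have h := S0280.result hF n (by omega)
  obtain ⟨r, rfl⟩ := Nat.exists_eq_add_of_le hn
  rw [Finset.prod_range_add] at h
  set R := ∏ x ∈ Finset.range r, (if Even (4 + x) then q ^ (4 + x + 1) + 1 else q ^ (4 + x + 1) - 1) with hR
  set X := Nat.card (PSU (4 + r) F q)
  have e1 : ∏ x ∈ Finset.range 4, (if Even x then q ^ (x + 1) + 1 else q ^ (x + 1) - 1) =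
      (q + 1) * (q ^ 2 - 1) * (q ^ 3 + 1) * (q ^ 4 - 1) := by
    rw [Finset.prod_range_succ, Finset.prod_range_succ, Finset.prod_range_succ, Finset.prod_range_one,
      if_pos (by decide), if_neg (by decide), if_pos (by decide), if_neg (by decide)]
    norm_num
  rw [e1] at h
  generalize q ^ ((4 + r) * (4 + r - 1) / 2) = E at h
  have h2 : Nat.gcd (4 + r) (q + 1) * X = (q ^ 2 - 1) * (q ^ 4 - 1) * (q ^ 3 + 1) * (E * R) := by
    refine Nat.eq_of_mul_eq_mul_left (show 0 < q + 1 by omega) ?_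
    calc (q + 1) * (Nat.gcd (4 + r) (q + 1) * X) = Nat.gcd (4 + r) (q + 1) * ((q + 1) * X) := by ring
      _ = _ := h
      _ = _ := by ring
  refine odd_big (Nat.gcd_pos_of_pos_left _ (by omega)) ((Nat.gcd_dvd_right _ _).trans ?_) h2 (eight hq)
    (sixteen hq dvd_rfl)
  have := Odd.nat_add_dvd_pow_add_pow q 1 (show Odd 3 by decide)
  rwa [one_pow] at this

theorem prod_split {q m : ℕ} (hm : 3 ≤ m) : ∃ R, ∏ i ∈ Finset.range m, (q ^ (2 * (i + 1)) - 1) =
    (q ^ 2 - 1) * (q ^ 4 - 1) * (q ^ 6 - 1) * R := by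
  obtain ⟨r, rfl⟩ := Nat.exists_eq_add_of_le hm
  rw [Finset.prod_range_add]
  refine ⟨∏ x ∈ Finset.range r, (q ^ (2 * (3 + x + 1)) - 1), ?_⟩
  simp only [Finset.prod_range_succ, Finset.prod_range_zero, one_mul]

theorem psp_odd {q m : ℕ} (hq : Odd q) (hF : Fintype.card F = q) (hm : 3 ≤ m) : 128 ∣ Nat.card (PSp m F) := by
  have e1 := S0245.result hF m
  have e2 := S0246.result hF m (by omega)
  have h3 := Subgroup.card_eq_card_quotient_mul_card_subgroup
    (Subgroup.center (Matrix.symplecticGroup (Fin m) F))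
  rw [e1, e2, mul_comm (Nat.card _) _] at h3
  obtain ⟨R, hR⟩ := prod_split (q := q) hm
  rw [hR] at h3
  refine odd_big (g := Nat.gcd 2 (q - 1)) (a := q ^ 2 - 1) (b := q ^ 4 - 1) (c := q ^ 6 - 1) (r := q ^ m ^ 2 * R)
    (Nat.gcd_pos_of_pos_left _ (by norm_num)) ((Nat.gcd_dvd_left _ _).trans (two_dvd hq 6)) ?_ (eight hq)
    (sixteen hq dvd_rfl)
  rw [← h3]
  ring

theorem oodd_big {q m : ℕ} (hq : Odd q) (hF : Fintype.card F = q) (hm : 3 ≤ m) :
    128 ∣ Nat.card (POmega F (quadFormOdd m F)) := by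
  have h := S0292.result hF hq m hm
  obtain ⟨R, hR⟩ := prod_split (q := q) hm
  rw [hR] at h
  refine odd_big (a := q ^ 2 - 1) (b := q ^ 4 - 1) (c := q ^ 6 - 1) (r := q ^ m ^ 2 * R)
    two_pos (two_dvd hq 6) ?_ (eight hq) (sixteen hq dvd_rfl)
  rw [h]
  ring

theorem oplus_big {q m : ℕ} (hF : Fintype.card F = q) (hm : 4 ≤ m) :
    128 ∣ Nat.card (POmega F (quadFormPlus m F)) := by
  have hq1 : 1 < q := hF ▸ Fintype.one_lt_card
  have h := S0293.result hF m hm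
  rcases Nat.even_or_odd q with he | ho
  · obtain ⟨k, hk, hk2⟩ := two_pow_of_even (hF ▸ Fintype.isPrimePow_card_of_field) he
    subst hk2
    have ho' : Odd ((2 ^ k) ^ m - 1) := odd_sub he (Nat.one_le_pow _ _ (by norm_num)) (by omega)
    rw [mul_assoc] at h
    refine even_big (odd_gcd_right ho') ?_ h
    have h1 : 4 * 3 ≤ m * (m - 1) := Nat.mul_le_mul hm (by omega)
    nlinarith
  · obtain ⟨R, hR⟩ := prod_split (q := q) (m := m - 1) (by omega)
    rw [hR] at h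
    refine odd_big (g := Nat.gcd 4 (q ^ m - 1)) (a := q ^ 2 - 1) (b := q ^ 4 - 1) (c := q ^ m - 1) (r := q ^ (m * (m - 1)) * ((q ^ 6 - 1) * R))
      (Nat.gcd_pos_of_pos_left _ (by norm_num)) (Nat.gcd_dvd_right _ _) ?_ (eight ho) (sixteen ho dvd_rfl)
    rw [h]
    ring

theorem ominus_big {q m : ℕ} (hF : Fintype.card F = q) (hm : 4 ≤ m) {a b : F}
    (hab : ∀ z₁ z₂ : F, z₁ ^ 2 + a * z₁ * z₂ + b * z₂ ^ 2 = 0 → z₁ = 0 ∧ z₂ = 0) :
    128 ∣ Nat.card (POmega F (quadFormMinus (m - 1) F a b)) := by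
  have hq1 : 1 < q := hF ▸ Fintype.one_lt_card
  have h := S0294.result hF m hm a b hab
  rcases Nat.even_or_odd q with he | ho
  · obtain ⟨k, hk, hk2⟩ := two_pow_of_even (hF ▸ Fintype.isPrimePow_card_of_field) he
    subst hk2
    have ho' : Odd ((2 ^ k) ^ m + 1) := odd_add he (by omega)
    rw [mul_assoc] at h
    refine even_big (odd_gcd_right ho') ?_ h
    have h1 : 4 * 3 ≤ m * (m - 1) := Nat.mul_le_mul hm (by omega)
    nlinarith
  · obtain ⟨R, hR⟩ := prod_split (q := q) (m := m - 1) (by omega)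
    rw [hR] at h
    refine odd_big (g := Nat.gcd 4 (q ^ m + 1)) (a := q ^ 2 - 1) (b := q ^ 4 - 1) (c := q ^ m + 1) (r := q ^ (m * (m - 1)) * ((q ^ 6 - 1) * R))
      (Nat.gcd_pos_of_pos_left _ (by norm_num)) (Nat.gcd_dvd_right _ _) ?_ (eight ho) (sixteen ho dvd_rfl)
    rw [h]
    ring

end

end Cfsg.Agent.H487.K5
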