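import Cfsg.Agent.H487.K5.ListK
import Cfsg.Agent.S0000

/-!
# S4874, task T18 (LIST): the simple groups `S` with `16 ∣ |S|`, `128 ∤ |S|` (helper487)
-/

set_option autoImplicit false

namespace Cfsg.Agent.H487.K5

open Cfsg Cfsg.Agent.GH.Defs

universe u

/-- **T18 LIST.** -/
theorem list {S : Type u} [Group S] [Finite S] [IsSimpleGroup S] (hna : ¬ IsMulCommutative S)
    (h16 : 16 ∣ Nat.card S) (h128 : ¬ 128 ∣ Nat.card S) :
    IsL2odd S ∨ (∃ (F : Type) (_ : Field F) (_ : Fintype F) (n : ℕ), Fintype.card F = 2 ^ n ∧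
        Nonempty (S ≃* Matrix.ProjectiveSpecialLinearGroup (Fin 2) F)) ∨
      IsL3odd S ∨ IsU3odd S ∨ IsSp4odd S ∨ IsG2odd S ∨ IsD4odd S ∨ IsAlt 8 S ∨ IsAlt 9 S ∨ Spor.IsoM11 S ∨
      Spor.IsoM12 S ∨ IsSz8 S ∨ IsU34 S ∨ IsL34 S :=
  list_of Cfsg.Agent.S0000.result hna h16 h128

end Cfsg.Agent.H487.K5
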