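import Cfsg.Agent.H487.K5.Arith
import Cfsg.Agent.OrdDiv.Table
import Cfsg.Agent.GH.Defs
import Cfsg.Agent.S0256
import Cfsg.Agent.S0822

/-!
# S4874, task T18: the known simple groups `S` with `16 ∣ |S|`, `128 ∤ |S|` (helper487)
-/

set_option autoImplicit false

namespace Cfsg.Agent.H487.K5

open Cfsg Cfsg.Agent.OrdDiv Cfsg.Agent.H465.OrdTwo Cfsg.Agent.GH.Defs

universe u

/-- the list -/
def Tgt (S : Type u) [Group S] : Prop :=
  IsL2odd S ∨ (∃ (F : Type) (_ : Field F) (_ : Fintype F) (n : ℕ), Fintype.card F = 2 ^ n ∧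
        Nonempty (S ≃* Matrix.ProjectiveSpecialLinearGroup (Fin 2) F)) ∨
      IsL3odd S ∨ IsU3odd S ∨ IsSp4odd S ∨ IsG2odd S ∨ IsD4odd S ∨ IsAlt 8 S ∨ IsAlt 9 S ∨ Spor.IsoM11 S ∨
      Spor.IsoM12 S ∨ IsSz8 S ∨ IsU34 S ∨ IsL34 S

section

variable {S : Type u} [Group S]

theorem Tgt.l2odd (h : IsL2odd S) : Tgt S := by unfold Tgt; tauto
theorem Tgt.l2even (h : ∃ (F : Type) (_ : Field F) (_ : Fintype F) (n : ℕ), Fintype.card F = 2 ^ n ∧
        Nonempty (S ≃* Matrix.ProjectiveSpecialLinearGroup (Fin 2) F)) : Tgt S := Or.inr (Or.inl h)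
theorem Tgt.l3odd (h : IsL3odd S) : Tgt S := by unfold Tgt; tauto
theorem Tgt.u3odd (h : IsU3odd S) : Tgt S := by unfold Tgt; tauto
theorem Tgt.sp4odd (h : IsSp4odd S) : Tgt S := by unfold Tgt; tauto
theorem Tgt.g2odd (h : IsG2odd S) : Tgt S := by unfold Tgt; tauto
theorem Tgt.d4odd (h : IsD4odd S) : Tgt S := by unfold Tgt; tauto
theorem Tgt.a8 (h : IsAlt 8 S) : Tgt S := by unfold Tgt; tauto
theorem Tgt.a9 (h : IsAlt 9 S) : Tgt S := by unfold Tgt; tauto
theorem Tgt.m11 (h : Spor.IsoM11 S) : Tgt S := by unfold Tgt; tauto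
theorem Tgt.m12 (h : Spor.IsoM12 S) : Tgt S := by unfold Tgt; tauto
theorem Tgt.sz8 (h : IsSz8 S) : Tgt S := by unfold Tgt; tauto
theorem Tgt.u34 (h : IsU34 S) : Tgt S := by unfold Tgt; tauto
theorem Tgt.l34 (h : IsL34 S) : Tgt S := by unfold Tgt; tauto

/-! ### the families -/

theorem alt_row {n : ℕ} (hn : 5 ≤ n) (e : S ≃* ↥(alternatingGroup (Fin n))) (h16 : 16 ∣ Nat.card S)
    (h128 : ¬ 128 ∣ Nat.card S) : Tgt S := by
  have hc := alt_card hn e
  by_cases h10 : 10 ≤ n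
  · exfalso
    apply h128
    have h1 : Nat.factorial 10 ∣ n.factorial := Nat.factorial_dvd_factorial h10
    rw [hc] at h1
    have h2 : 2 * 128 ∣ 2 * Nat.card S := Dvd.dvd.trans (by decide) h1
    exact Nat.dvd_of_mul_dvd_mul_left two_pos h2
  · have h7 : ∀ m, m ≤ 7 → n = m → False := by
      intro m hm hnm
      have h1 : 2 * 16 ∣ n.factorial := hc ▸ Nat.mul_dvd_mul_left 2 h16
      have h2 : n.factorial ∣ Nat.factorial 7 := Nat.factorial_dvd_factorial (by omega)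
      exact absurd (h1.trans h2) (by decide)
    obtain rfl | rfl | h : n = 8 ∨ n = 9 ∨ n ≤ 7 := by omega
    · exact Tgt.a8 ⟨e⟩
    · exact Tgt.a9 ⟨e⟩
    · exact (h7 n h rfl).elim

theorem psl_row {F : Type} [Field F] [Fintype F] {n : ℕ} (hn : 2 ≤ n) (hn2 : n = 2 → 4 ≤ Fintype.card F)
    (e : S ≃* Matrix.ProjectiveSpecialLinearGroup (Fin n) F) (h16 : 16 ∣ Nat.card S)
    (h128 : ¬ 128 ∣ Nat.card S) : Tgt S := by
  rw [Nat.card_congr e.toEquiv] at h16 h128
  rcases Nat.even_or_odd (Fintype.card F) with he | ho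
  · obtain ⟨k, hk, hF⟩ := card_two F he
    obtain rfl | hn3 : n = 2 ∨ 3 ≤ n := by omega
    · exact Tgt.l2even ⟨F, inferInstance, inferInstance, k, hF, ⟨e⟩⟩
    have hlt : k * (n * (n - 1) / 2) < 7 := by
      by_contra hc
      exact h128 (psl_even hk hF hn (by omega))
    obtain rfl | rfl | hn5 : n = 3 ∨ n = 4 ∨ 5 ≤ n := by omega
    · norm_num at hlt
      obtain rfl | rfl : k = 1 ∨ k = 2 := by omega
      · exfalso
        have h3 := S0243.result hF 3 (by norm_num)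
        rw [Fin.prod_univ_three] at h3
        norm_num at h3
        omega
      · exact Tgt.l34 ⟨F, inferInstance, inferInstance, by rw [hF]; norm_num, ⟨e⟩⟩
    · norm_num at hlt
      obtain rfl : k = 1 := by omega
      obtain ⟨f⟩ := S0256.result (F := F) (by rw [hF]; norm_num)
      exact Tgt.a8 ⟨e.trans f⟩
    · exfalso
      have h1 : 5 * 4 ≤ n * (n - 1) := Nat.mul_le_mul hn5 (by omega)
      have h2 : 10 ≤ n * (n - 1) / 2 := by omega
      have h3 : 1 * 10 ≤ k * (n * (n - 1) / 2) := Nat.mul_le_mul hk h2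
      omega
  · obtain rfl | rfl | hn4 : n = 2 ∨ n = 3 ∨ 4 ≤ n := by omega
    · have h4 := hn2 rfl
      have h5 : 5 ≤ Fintype.card F := by
        rcases ho with ⟨t, ht⟩
        omega
      exact Tgt.l2odd ⟨F, inferInstance, inferInstance, ho, h5, ⟨e⟩⟩
    · exact Tgt.l3odd ⟨F, inferInstance, inferInstance, ho, ⟨e⟩⟩
    · exact absurd (psl_odd ho rfl hn4) h128

theorem psp_row {F : Type} [Field F] [Fintype F] {m : ℕ} (hm : 2 ≤ m) (hm2 : m = 2 → 3 ≤ Fintype.card F)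
    (e : S ≃* PSp m F) (h128 : ¬ 128 ∣ Nat.card S) : Tgt S := by
  have hc := Nat.card_congr e.toEquiv
  rw [hc] at h128
  rcases Nat.even_or_odd (Fintype.card F) with he | ho
  · exfalso
    obtain ⟨k, hk, hF⟩ := card_two F he
    apply h128
    apply psp_even hk hF (by omega)
    obtain rfl | hm3 : m = 2 ∨ 3 ≤ m := by omega
    · have h3 := hm2 rfl
      have : k ≠ 1 := by
        rintro rfl
        omega
      omega
    · have : 9 ≤ m ^ 2 := by nlinarith
      nlinarith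
  · obtain rfl | hm3 : m = 2 ∨ 3 ≤ m := by omega
    · exact Tgt.sp4odd ⟨F, inferInstance, inferInstance, ho, ⟨e⟩⟩
    · exact absurd (psp_odd ho rfl hm3) h128

theorem psu_row {F : Type} [Field F] [Fintype F] {n q : ℕ} (hF : Fintype.card F = q ^ 2) (hn : 3 ≤ n)
    (hn2 : ¬ (n = 3 ∧ q = 2)) (e : S ≃* PSU n F q) (h128 : ¬ 128 ∣ Nat.card S) : Tgt S := by
  have hc := Nat.card_congr e.toEquiv
  rw [hc] at h128
  have hq2 : IsPrimePow (q ^ 2) := hF ▸ Fintype.isPrimePow_card_of_field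
  have hqp : IsPrimePow q := (isPrimePow_pow_iff (by norm_num)).1 hq2
  rcases Nat.even_or_odd q with he | ho
  · obtain ⟨k, hk, rfl⟩ := two_pow_of_even hqp he
    have hlt : k * (n * (n - 1) / 2) < 7 := by
      by_contra hc
      exact h128 (psu_even hk hF (by omega) (by omega))
    obtain rfl | rfl | hn5 : n = 3 ∨ n = 4 ∨ 5 ≤ n := by omega
    · norm_num at hlt
      obtain rfl | rfl : k = 1 ∨ k = 2 := by omega
      · exact absurd ⟨rfl, by norm_num⟩ hn2
      · exact Tgt.u34 ⟨F, inferInstance, inferInstance, by rw [hF]; norm_num, ⟨e⟩⟩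
    · norm_num at hlt
      obtain rfl : k = 1 := by omega
      obtain ⟨f⟩ := S0822.result (F := F) (K := ZMod 3) (by rw [hF]; norm_num) (by simp)
      exact Tgt.sp4odd ⟨ZMod 3, inferInstance, inferInstance, by rw [ZMod.card]; decide, ⟨e.trans f⟩⟩
    · exfalso
      have h1 : 5 * 4 ≤ n * (n - 1) := Nat.mul_le_mul hn5 (by omega)
      have h2 : 10 ≤ n * (n - 1) / 2 := by omega
      have h3 : 1 * 10 ≤ k * (n * (n - 1) / 2) := Nat.mul_le_mul hk h2
      omega
  · obtain rfl | hn4 : n = 3 ∨ 4 ≤ n := by omega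
    · exact Tgt.u3odd ⟨F, inferInstance, inferInstance, q, hF, ho, ⟨e⟩⟩
    · exact absurd (psu_odd ho hF hn4) h128

theorem ree_mod (m : ℕ) : 3 ^ (2 * m + 1) % 16 = 3 ∨ 3 ^ (2 * m + 1) % 16 = 11 := by
  induction m with
  | zero => left; rfl
  | succ m ih =>
    have : 3 ^ (2 * (m + 1) + 1) = 9 * 3 ^ (2 * m + 1) := by
      rw [show 2 * (m + 1) + 1 = 2 * m + 1 + 2 by ring, pow_add]
      ring
    omega

theorem ree_not (m : ℕ) : ¬ 16 ∣ (3 ^ (2 * m + 1)) ^ 3 * (3 ^ (2 * m + 1) - 1) * ((3 ^ (2 * m + 1)) ^ 3 + 1) := by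
  have h := ree_mod m
  have h1 : 1 ≤ 3 ^ (2 * m + 1) := Nat.one_le_pow _ _ (by norm_num)
  generalize 3 ^ (2 * m + 1) = q at h h1
  obtain ⟨r, hr⟩ : ∃ r, q = 16 * r + 3 ∨ q = 16 * r + 11 := ⟨q / 16, by omega⟩
  intro hd
  rcases hr with rfl | rfl
  · rw [Nat.dvd_iff_mod_eq_zero, Nat.mul_mod, Nat.mul_mod ((16 * r + 3) ^ 3), Nat.add_mod, Nat.pow_mod,
      show (16 * r + 3) % 16 = 3 by omega, show (16 * r + 3 - 1) % 16 = 2 by omega] at hd
    norm_num at hd
  · rw [Nat.dvd_iff_mod_eq_zero, Nat.mul_mod, Nat.mul_mod ((16 * r + 11) ^ 3), Nat.add_mod, Nat.pow_mod,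
      show (16 * r + 11) % 16 = 11 by omega, show (16 * r + 11 - 1) % 16 = 10 by omega] at hd
    norm_num at hd

/-- The exceptional groups. -/
theorem exc_row (T : OrderTable.{u}) (h : IsExceptionalLieType S) (h16 : 16 ∣ Nat.card S)
    (h128 : ¬ 128 ∣ Nat.card S) : Tgt S := by
  rcases h with h | h | h | h | h | h | h | h | h | h | h
  · obtain ⟨F, _, _, hq, ⟨e⟩⟩ := h
    rcases Nat.even_or_odd (Fintype.card F) with he | ho
    · exfalso
      obtain ⟨k, hk, hF⟩ := card_two F he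
      apply h128
      rw [Nat.card_congr e.toEquiv]
      have hk2 : k ≠ 1 := by
        rintro rfl
        omega
      refine even_big (d := 1) (k := k) (N := 6) (c := ((2 ^ k) ^ 2 - 1) * ((2 ^ k) ^ 6 - 1)) odd_one (by omega) ?_
      rw [T.g2 F, hF]
      ring
    · exact Tgt.g2odd ⟨F, inferInstance, inferInstance, ho, ⟨e⟩⟩
  · exfalso
    obtain ⟨F, _, _, ⟨e⟩⟩ := h
    apply h128
    rw [Nat.card_congr e.toEquiv]
    rcases Nat.even_or_odd (Fintype.card F) with he | ho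
    · obtain ⟨k, hk, hF⟩ := card_two F he
      refine even_big (d := 1) (k := k) (N := 24)
        (c := ((2 ^ k) ^ 2 - 1) * ((2 ^ k) ^ 6 - 1) * ((2 ^ k) ^ 8 - 1) * ((2 ^ k) ^ 12 - 1)) odd_one (by omega) ?_
      rw [T.f4 F _ hF]
      ring
    · refine odd_big (g := 1) (a := Fintype.card F ^ 2 - 1) (b := Fintype.card F ^ 8 - 1) (c := 1)
        (r := Fintype.card F ^ 24 * (Fintype.card F ^ 6 - 1) * (Fintype.card F ^ 12 - 1)) one_pos dvd_rfl ?_
        (eight ho) (sixteen ho (by norm_num))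
      rw [T.f4 F _ rfl]
      ring
  · exfalso
    obtain ⟨F, _, _, ⟨e⟩⟩ := h
    apply h128
    rw [Nat.card_congr e.toEquiv]
    rcases Nat.even_or_odd (Fintype.card F) with he | ho
    · obtain ⟨k, hk, hF⟩ := card_two F he
      refine even_big (d := Nat.gcd 3 (2 ^ k - 1)) (k := k) (N := 36)
        (c := ((2 ^ k) ^ 2 - 1) * ((2 ^ k) ^ 5 - 1) * ((2 ^ k) ^ 6 - 1) * ((2 ^ k) ^ 8 - 1) * ((2 ^ k) ^ 9 - 1) *
          ((2 ^ k) ^ 12 - 1)) (Odd.of_dvd_nat (by decide) (Nat.gcd_dvd_left 3 _)) (by omega) ?_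
      rw [T.e6 F _ hF]
      ring
    · refine odd_big (g := Nat.gcd 3 (Fintype.card F - 1)) (a := Fintype.card F ^ 2 - 1)
        (b := Fintype.card F ^ 8 - 1) (c := Fintype.card F ^ 5 - 1)
        (r := Fintype.card F ^ 36 * (Fintype.card F ^ 6 - 1) * (Fintype.card F ^ 9 - 1) * (Fintype.card F ^ 12 - 1))
        (Nat.gcd_pos_of_pos_left _ (by norm_num)) ?_ ?_ (eight ho) (sixteen ho (by norm_num))
      · have := sub_dvd (Fintype.card F) (one_dvd 5)
        rw [pow_one] at this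
        exact (Nat.gcd_dvd_right _ _).trans this
      · rw [T.e6 F _ rfl]
        ring
  · exfalso
    obtain ⟨F, _, _, ⟨e⟩⟩ := h
    apply h128
    rw [Nat.card_congr e.toEquiv]
    rcases Nat.even_or_odd (Fintype.card F) with he | ho
    · obtain ⟨k, hk, hF⟩ := card_two F he
      have ho' : Odd (2 ^ k - 1) := by
        have := odd_sub (even_two_pow hk) (Nat.one_le_pow _ _ (by norm_num)) (k := 1) one_ne_zero
        rwa [pow_one] at this
      refine even_big (d := Nat.gcd 2 (2 ^ k - 1)) (k := k) (N := 63)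
        (c := ((2 ^ k) ^ 2 - 1) * ((2 ^ k) ^ 6 - 1) * ((2 ^ k) ^ 8 - 1) * ((2 ^ k) ^ 10 - 1) * ((2 ^ k) ^ 12 - 1) *
          ((2 ^ k) ^ 14 - 1) * ((2 ^ k) ^ 18 - 1)) (odd_gcd_right ho') (by omega) ?_
      rw [T.e7 F _ hF]
      ring
    · refine odd_big (g := Nat.gcd 2 (Fintype.card F - 1)) (a := Fintype.card F ^ 2 - 1)
        (b := Fintype.card F ^ 8 - 1) (c := Fintype.card F ^ 6 - 1)
        (r := Fintype.card F ^ 63 * (Fintype.card F ^ 10 - 1) * (Fintype.card F ^ 12 - 1) *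
          (Fintype.card F ^ 14 - 1) * (Fintype.card F ^ 18 - 1))
        (Nat.gcd_pos_of_pos_left _ (by norm_num)) ((Nat.gcd_dvd_left _ _).trans (two_dvd ho 6)) ?_ (eight ho)
        (sixteen ho (by norm_num))
      rw [T.e7 F _ rfl]
      ring
  · exfalso
    obtain ⟨F, _, _, ⟨e⟩⟩ := h
    apply h128
    rw [Nat.card_congr e.toEquiv]
    rcases Nat.even_or_odd (Fintype.card F) with he | ho
    · obtain ⟨k, hk, hF⟩ := card_two F he
      refine even_big (d := 1) (k := k) (N := 120)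
        (c := ((2 ^ k) ^ 2 - 1) * ((2 ^ k) ^ 8 - 1) * ((2 ^ k) ^ 12 - 1) * ((2 ^ k) ^ 14 - 1) * ((2 ^ k) ^ 18 - 1) *
          ((2 ^ k) ^ 20 - 1) * ((2 ^ k) ^ 24 - 1) * ((2 ^ k) ^ 30 - 1)) odd_one (by omega) ?_
      rw [T.e8 F _ hF]
      ring
    · refine odd_big (g := 1) (a := Fintype.card F ^ 2 - 1) (b := Fintype.card F ^ 8 - 1) (c := 1)
        (r := Fintype.card F ^ 120 * (Fintype.card F ^ 12 - 1) * (Fintype.card F ^ 14 - 1) *
          (Fintype.card F ^ 18 - 1) * (Fintype.card F ^ 20 - 1) * (Fintype.card F ^ 24 - 1) *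
          (Fintype.card F ^ 30 - 1)) one_pos dvd_rfl ?_ (eight ho) (sixteen ho (by norm_num))
      rw [T.e8 F _ rfl]
      ring
  · exfalso
    obtain ⟨F, _, _, q, hq, hF, ⟨e⟩⟩ := h
    apply h128
    rw [Nat.card_congr e.toEquiv]
    rcases Nat.even_or_odd q with he | ho
    · obtain ⟨k, hk, rfl⟩ := two_pow_of_even hq he
      refine even_big (d := Nat.gcd 3 (2 ^ k + 1)) (k := k) (N := 36)
        (c := ((2 ^ k) ^ 2 - 1) * ((2 ^ k) ^ 5 + 1) * ((2 ^ k) ^ 6 - 1) * ((2 ^ k) ^ 8 - 1) * ((2 ^ k) ^ 9 + 1) *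
          ((2 ^ k) ^ 12 - 1)) (Odd.of_dvd_nat (by decide) (Nat.gcd_dvd_left 3 _)) (by omega) ?_
      rw [T.te6 F _ hq hF]
      ring
    · refine odd_big (g := Nat.gcd 3 (q + 1)) (a := q ^ 2 - 1)
        (b := q ^ 8 - 1) (c := q ^ 5 + 1)
        (r := q ^ 36 * (q ^ 6 - 1) * (q ^ 9 + 1) * (q ^ 12 - 1))
        (Nat.gcd_pos_of_pos_left _ (by norm_num)) ?_ ?_ (eight ho) (sixteen ho (by norm_num))
      · have := Odd.nat_add_dvd_pow_add_pow q 1 (show Odd 5 by decide)
        rw [one_pow] at this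
        exact (Nat.gcd_dvd_right _ _).trans this
      · rw [T.te6 F _ hq hF]
        ring
  · obtain ⟨F, _, _, q, hq, hF, ⟨e⟩⟩ := h
    rcases Nat.even_or_odd q with he | ho
    · exfalso
      obtain ⟨k, hk, rfl⟩ := two_pow_of_even hq he
      apply h128
      rw [Nat.card_congr e.toEquiv]
      refine even_big (d := 1) (k := k) (N := 12)
        (c := ((2 ^ k) ^ 2 - 1) * ((2 ^ k) ^ 6 - 1) * ((2 ^ k) ^ 8 + (2 ^ k) ^ 4 + 1)) odd_one (by omega) ?_
      rw [T.td4 F _ hq hF]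
      ring
    · exact Tgt.d4odd ⟨F, inferInstance, inferInstance, q, ho, hF, ⟨e⟩⟩
  · obtain ⟨F, _, _, m, hm, hF, ⟨e⟩⟩ := h
    obtain rfl | hm2 : m = 1 ∨ 2 ≤ m := by omega
    · exact Tgt.sz8 ⟨F, inferInstance, inferInstance, by rw [hF]; norm_num, ⟨e⟩⟩
    · exfalso
      apply h128
      rw [Nat.card_congr e.toEquiv]
      refine even_big (d := 1) (k := 2 * m + 1) (N := 2)
        (c := (2 ^ (2 * m + 1) - 1) * ((2 ^ (2 * m + 1)) ^ 2 + 1)) odd_one (by omega) ?_
      rw [T.sz F m hm hF]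
      ring
  · exfalso
    obtain ⟨F, _, _, m, hm, hF, ⟨e⟩⟩ := h
    rw [Nat.card_congr e.toEquiv, T.ree F m hm hF] at h16
    exact ree_not m h16
  · exfalso
    obtain ⟨F, _, _, m, hm, hF, ⟨e⟩⟩ := h
    apply h128
    rw [Nat.card_congr e.toEquiv]
    refine even_big (d := 1) (k := 2 * m + 1) (N := 12)
      (c := (2 ^ (2 * m + 1) - 1) * ((2 ^ (2 * m + 1)) ^ 3 + 1) * ((2 ^ (2 * m + 1)) ^ 4 - 1) *
        ((2 ^ (2 * m + 1)) ^ 6 + 1)) odd_one (by omega) ?_
    rw [T.tf4 F m hm hF]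
    ring
  · exfalso
    have hc := T.spor S (.tits, 17971200) (by decide) h
    change Nat.card S = 17971200 at hc
    rw [hc] at h128
    norm_num at h128

/-- The sporadic groups. -/
theorem spor_row (T : OrderTable.{u}) (h : IsSporadicGroup S) (h16 : 16 ∣ Nat.card S)
    (h128 : ¬ 128 ∣ Nat.card S) : Tgt S := by
  have hS : ∀ g n, (g, n) ∈ OrdDiv.spor → Real g S → (¬ 16 ∣ n ∨ 128 ∣ n) → Tgt S := by
    intro g n hm hr hn
    have hc : Nat.card S = n := T.spor S (g, n) hm hr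
    rcases hn with hn | hn
    · exact absurd (hc ▸ h16) hn
    · exact absurd (hc ▸ hn) h128
  rcases h with h | h | h | h | h | h | h | h | h | h | h | h | h | h | h | h | h | h | h | h | h | h | h | h | h | h
  · exact Tgt.m11 h
  · exact Tgt.m12 h
  · exact hS .m22 443520 (by simp [OrdDiv.spor]) h (by norm_num)
  · exact hS .m23 10200960 (by simp [OrdDiv.spor]) h (by norm_num)
  · exact hS .m24 244823040 (by simp [OrdDiv.spor]) h (by norm_num)
  · exact hS .j1 175560 (by simp [OrdDiv.spor]) h (by norm_num)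
  · exact hS .j2 604800 (by simp [OrdDiv.spor]) h (by norm_num)
  · exact hS .j3 50232960 (by simp [OrdDiv.spor]) h (by norm_num)
  · exact hS .j4 86775571046077562880 (by simp [OrdDiv.spor]) h (by norm_num)
  · exact hS .co1 4157776806543360000 (by simp [OrdDiv.spor]) h (by norm_num)
  · exact hS .co2 42305421312000 (by simp [OrdDiv.spor]) h (by norm_num)
  · exact hS .co3 495766656000 (by simp [OrdDiv.spor]) h (by norm_num)
  · exact hS .mcl 898128000 (by simp [OrdDiv.spor]) h (by norm_num)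
  · exact hS .hs 44352000 (by simp [OrdDiv.spor]) h (by norm_num)
  · exact hS .suz 448345497600 (by simp [OrdDiv.spor]) h (by norm_num)
  · exact hS .he 4030387200 (by simp [OrdDiv.spor]) h (by norm_num)
  · exact hS .ru 145926144000 (by simp [OrdDiv.spor]) h (by norm_num)
  · exact hS .on 460815505920 (by simp [OrdDiv.spor]) h (by norm_num)
  · exact hS .ly 51765179004000000 (by simp [OrdDiv.spor]) h (by norm_num)
  · exact hS .fi22 64561751654400 (by simp [OrdDiv.spor]) h (by norm_num)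
  · exact hS .fi23 4089470473293004800 (by simp [OrdDiv.spor]) h (by norm_num)
  · exact hS .fi24 1255205709190661721292800 (by simp [OrdDiv.spor]) h (by norm_num)
  · exact hS .hn 273030912000000 (by simp [OrdDiv.spor]) h (by norm_num)
  · exact hS .th 90745943887872000 (by simp [OrdDiv.spor]) h (by norm_num)
  · exact hS .b 4154781481226426191177580544000000 (by simp [OrdDiv.spor]) h (by norm_num)
  · exact hS .m 808017424794512875886459904961710757005754368000000000 (by simp [OrdDiv.spor]) h (by norm_num)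

/-- **T18, from the classification.** -/
theorem list_of (hk : IsKnownSimple' S) (hna : ¬ IsMulCommutative S) (h16 : 16 ∣ Nat.card S)
    (h128 : ¬ 128 ∣ Nat.card S) : Tgt S := by
  rcases hk with h | h | h | h | h | h | h | h | h | h
  · exfalso
    have : Fact (Nat.card S).Prime := ⟨h⟩
    have : IsCyclic S := isCyclic_of_prime_card (p := Nat.card S) rfl
    exact hna (IsCyclic.isMulCommutative (α := S))
  · obtain ⟨n, hn, ⟨e⟩⟩ := h
    exact alt_row hn e h16 h128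
  · obtain ⟨F, _, _, n, hn, hn2, ⟨e⟩⟩ := h
    exact psl_row hn hn2 e h16 h128
  · obtain ⟨F, _, _, n, hn, hn2, ⟨e⟩⟩ := h
    exact psp_row hn hn2 e h128
  · obtain ⟨F, _, _, n, q, hF, hn, hn2, ⟨e⟩⟩ := h
    exact psu_row hF hn hn2 e h128
  · obtain ⟨F, _, _, n, hn, ho, ⟨e⟩⟩ := h
    rw [Nat.card_congr e.toEquiv] at h128
    exact absurd (oodd_big ho rfl hn) h128
  · obtain ⟨F, _, _, n, hn, ⟨e⟩⟩ := h
    rw [Nat.card_congr e.toEquiv] at h128
    exact absurd (oplus_big rfl hn) h128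
  · obtain ⟨F, _, _, n, a, b, hn, hab, ⟨e⟩⟩ := h
    rw [Nat.card_congr e.toEquiv] at h128
    exact absurd (ominus_big rfl hn hab) h128
  · exact exc_row table h h16 h128
  · exact spor_row table h h16 h128

end

end Cfsg.Agent.H487.K5
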